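/-
`D*(S)` is the unique maximal member of its defining family.
-/
import Cfsg.Prelude.Def_DStar
import Cfsg.Agent.Lib.LocalEven.SylowAux

set_option autoImplicit false

namespace Cfsg.Agent.DStar

open scoped commutatorElement

variable {S : Type*} [Group S]

theorem commute_of_mem {A : Subgroup S} (hA : IsMulCommutative A) {a b : S} (ha : a ∈ A)
    (hb : b ∈ A) : a * b = b * a :=
  congrArg Subtype.val (hA.is_comm.comm (⟨a, ha⟩ : ↥A) ⟨b, hb⟩)

/-- A member of the family is centralised by each element normalising it and acting quadratically. -/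
theorem centralizes_of_quadratic {A : Subgroup S} (hA : A ∈ Cfsg.dStarFamily S) {x : S}
    (hx : x ∈ Subgroup.normalizer (A : Set S))
    (hq : ∀ a ∈ A, Commute x (a * x * a⁻¹ * x⁻¹)) : ∀ a ∈ A, a * x = x * a := by
  obtain ⟨hAc, hA2⟩ := hA
  apply hA2
  set U := A ⊔ Subgroup.zpowers x with hU
  -- the central subgroup containing the commutators
  set Z := A ⊓ Subgroup.centralizer ({x} : Set S) with hZ
  have hZU : ∀ z ∈ Z, z ∈ Subgroup.centralizer (U : Set S) := by
    intro z hz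
    have hU' : U ≤ Subgroup.centralizer ({z} : Set S) := by
      refine sup_le (fun a ha => Subgroup.mem_centralizer_singleton_iff.2
        (commute_of_mem hAc ha (Subgroup.mem_inf.1 hz).1)) (Subgroup.zpowers_le.2 ?_)
      exact Subgroup.mem_centralizer_singleton_iff.2
        (Subgroup.mem_centralizer_singleton_iff.1 (Subgroup.mem_inf.1 hz).2).symm
    exact fun u hu => Subgroup.mem_centralizer_singleton_iff.1 (hU' hu)
  rw [Subgroup.commutator_eq_bot_iff_le_centralizer]
  -- elements commuting with `U` modulo `Z`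
  let D : S → Prop := fun u => ∀ w ∈ U, u * w * u⁻¹ * w⁻¹ ∈ Z
  suffices hD : ∀ u ∈ U, D u by
    rw [Subgroup.commutator_le]
    intro u hu w hw
    rw [commutatorElement_def]
    exact hZU _ (hD u hu w hw)
  have hgen : U = Subgroup.closure ((A : Set S) ∪ {x}) := by
    rw [hU, Subgroup.closure_union, Subgroup.closure_eq, Subgroup.zpowers_eq_closure]
  have hxx : ∀ w : S, w ∈ (A : Set S) ∪ {x} → ∀ v ∈ (A : Set S) ∪ {x},
      w * v * w⁻¹ * v⁻¹ ∈ Z := by
    intro w hw v hv
    have hax : ∀ a ∈ A, a * x * a⁻¹ * x⁻¹ ∈ Z := fun a ha => Subgroup.mem_inf.2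
      ⟨by
        have h1 := (Subgroup.mem_normalizer_iff.1 hx a⁻¹).1 (inv_mem ha)
        simpa [mul_assoc] using mul_mem ha h1,
      Subgroup.mem_centralizer_singleton_iff.2 (hq a ha).symm⟩
    rcases hw with hw | hw <;> rcases hv with hv | hv
    · rw [commute_of_mem hAc hw hv]; simp
    · obtain rfl : v = x := hv
      exact hax w hw
    · obtain rfl : w = x := hw
      rw [show w * v * w⁻¹ * v⁻¹ = (v * w * v⁻¹ * w⁻¹)⁻¹ by group]
      exact inv_mem (hax v hv)
    · obtain rfl : v = x := hv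
      obtain rfl : w = v := hw
      simp
  have hext : ∀ w : S, w ∈ U → (∀ v ∈ (A : Set S) ∪ {x}, w * v * w⁻¹ * v⁻¹ ∈ Z) → D w := by
    intro w hwU hw v hv
    rw [hgen] at hv
    induction hv using Subgroup.closure_induction with
    | mem v hv => exact hw v hv
    | one => simp
    | mul v₁ v₂ h₁ h₂ ih₁ ih₂ =>
      have hc := (hZU _ ih₂) v₁ (hgen ▸ h₁)
      have e : w * (v₁ * v₂) * w⁻¹ * (v₁ * v₂)⁻¹ =
          (w * v₁ * w⁻¹ * v₁⁻¹) * (v₁ * (w * v₂ * w⁻¹ * v₂⁻¹) * v₁⁻¹) := by group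
      rw [e, hc, mul_inv_cancel_right]
      exact mul_mem ih₁ ih₂
    | inv v₁ h₁ ih₁ =>
      have hc := (hZU _ ih₁) v₁ (hgen ▸ h₁)
      have e : w * v₁⁻¹ * w⁻¹ * v₁⁻¹⁻¹ = v₁⁻¹ * (w * v₁ * w⁻¹ * v₁⁻¹)⁻¹ * v₁ := by group
      rw [e, mul_assoc, ← (Commute.inv_right (hc : Commute v₁ _)).eq, inv_mul_cancel_left]
      exact inv_mem ih₁
  intro u hu w hw
  have hgenU : ∀ v ∈ (A : Set S) ∪ {x}, v ∈ U := fun v hv => hgen ▸ Subgroup.subset_closure hv
  have h1 : ∀ v ∈ (A : Set S) ∪ {x}, u * v * u⁻¹ * v⁻¹ ∈ Z := by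
    intro v hv
    have := hext v (hgenU v hv) (hxx v hv) u hu
    rw [show u * v * u⁻¹ * v⁻¹ = (v * u * v⁻¹ * u⁻¹)⁻¹ by group]
    exact inv_mem this
  exact hext u hu h1 w hw

theorem sup_mem {A B : Subgroup S} (hA : A ∈ Cfsg.dStarFamily S) (hB : B ∈ Cfsg.dStarFamily S)
    (h : ∀ a ∈ A, ∀ b ∈ B, a * b = b * a) : A ⊔ B ∈ Cfsg.dStarFamily S := by
  refine ⟨?_, fun x hx => ?_⟩
  · have hA' : A ⊔ B ≤ Subgroup.centralizer ((A ⊔ B : Subgroup S) : Set S) := by
      have e : ∀ K : Subgroup S, (∀ k ∈ K, ∀ a ∈ A, k * a = a * k) →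
          (∀ k ∈ K, ∀ b ∈ B, k * b = b * k) →
          K ≤ Subgroup.centralizer ((A ⊔ B : Subgroup S) : Set S) := by
        intro K h1 h2 k hk
        have : A ⊔ B ≤ Subgroup.centralizer ({k} : Set S) :=
          sup_le (fun a ha => Subgroup.mem_centralizer_singleton_iff.2 (h1 k hk a ha).symm)
            (fun b hb => Subgroup.mem_centralizer_singleton_iff.2 (h2 k hk b hb).symm)
        exact fun u hu => Subgroup.mem_centralizer_singleton_iff.1 (this hu)
      exact sup_le (e A (fun k hk a ha => commute_of_mem hA.1 hk ha) h)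
        (e B (fun k hk a ha => (h a ha k hk).symm) (fun k hk b hb => commute_of_mem hB.1 hk hb))
    exact ⟨⟨fun a b => Subtype.ext (hA' b.2 (a : S) a.2)⟩⟩
  · have key : ∀ C : Subgroup S, C ≤ A ⊔ B → ⁅⁅C ⊔ Subgroup.zpowers x, C ⊔ Subgroup.zpowers x⁆,
        C ⊔ Subgroup.zpowers x⁆ = ⊥ := by
      intro C hC
      rw [eq_bot_iff, ← hx]
      have := sup_le_sup_right hC (Subgroup.zpowers x)
      exact Subgroup.commutator_mono (Subgroup.commutator_mono this this) this
    have : A ⊔ B ≤ Subgroup.centralizer ({x} : Set S) :=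
      sup_le (fun a ha => Subgroup.mem_centralizer_singleton_iff.2
          (hA.2 x (key A le_sup_left) a ha))
        (fun b hb => Subgroup.mem_centralizer_singleton_iff.2 (hB.2 x (key B le_sup_right) b hb))
    exact fun u hu => Subgroup.mem_centralizer_singleton_iff.1 (this hu)

/-- Two members normalising each other commute. -/
theorem commute_of_normalize {A B : Subgroup S} (hA : A ∈ Cfsg.dStarFamily S)
    (hB : B ∈ Cfsg.dStarFamily S) (hAB : A ≤ Subgroup.normalizer (B : Set S))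
    (hBA : B ≤ Subgroup.normalizer (A : Set S)) : ∀ a ∈ A, ∀ b ∈ B, a * b = b * a := by
  intro a ha b hb
  refine centralizes_of_quadratic hA (hBA hb) (fun c hc => ?_) a ha
  refine commute_of_mem hB.1 hb (mul_mem ?_ (inv_mem hb))
  exact (Subgroup.mem_normalizer_iff.1 (hAB hc) b).1 hb

theorem map_mem {T : Type*} [Group T] (e : S ≃* T) {A : Subgroup S}
    (hA : A ∈ Cfsg.dStarFamily S) : A.map e.toMonoidHom ∈ Cfsg.dStarFamily T := by
  obtain ⟨hAc, hA2⟩ := hA
  refine ⟨⟨⟨?_⟩⟩, ?_⟩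
  · rintro ⟨_, a, ha, rfl⟩ ⟨_, b, hb, rfl⟩
    exact Subtype.ext (by
      show e a * e b = e b * e a
      rw [← map_mul, ← map_mul, commute_of_mem hAc ha hb])
  · intro y hy
    obtain ⟨x, rfl⟩ := e.surjective y
    rintro _ ⟨a, ha, rfl⟩
    show e a * e x = e x * e a
    rw [← map_mul, ← map_mul, hA2 x ?_ a ha]
    rw [show Subgroup.zpowers (e x) = (Subgroup.zpowers x).map e.toMonoidHom from
      (MonoidHom.map_zpowers e.toMonoidHom x).symm, ← Subgroup.map_sup, ← Subgroup.map_commutator,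
      ← Subgroup.map_commutator, Subgroup.map_eq_bot_iff_of_injective _ e.injective] at hy
    exact hy

variable [Finite S] {p : ℕ} [Fact p.Prime]

theorem dStar_mem (hS : IsPGroup p S) : Cfsg.dStar S ∈ Cfsg.dStarFamily S := by
  have hbot : (⊥ : Subgroup S) ∈ Cfsg.dStarFamily S := by
    refine ⟨⟨⟨fun a b => ?_⟩⟩, fun x _ a ha => ?_⟩
    · rw [Subsingleton.elim a b]
    · rw [Subgroup.mem_bot.1 ha]; simp
  have hfin : (Cfsg.dStarFamily S).Finite := Set.toFinite _
  obtain ⟨M, -, hM⟩ := hfin.exists_le_maximal hbot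
  have hjoin : ∀ M : Subgroup S, Maximal (· ∈ Cfsg.dStarFamily S) M → ∀ B ∈ Cfsg.dStarFamily S,
      M ≤ Subgroup.normalizer (B : Set S) → B ≤ Subgroup.normalizer (M : Set S) → B ≤ M := by
    intro M hM B hB h1 h2
    have := hM.2 (sup_mem hM.1 hB (commute_of_normalize hM.1 hB h1 h2)) le_sup_left
    exact le_sup_right.trans this
  have hnormal : ∀ M : Subgroup S, Maximal (· ∈ Cfsg.dStarFamily S) M →
      Subgroup.normalizer (M : Set S) = ⊤ := by
    intro M hM
    refine LESylow.eq_of_normalizer_inf_le (hS.to_subgroup ⊤) le_top ?_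
    intro n hn
    have hn' := (Subgroup.mem_inf.1 hn).2
    have h1 : M.map (MulAut.conj n).toMonoidHom ≤ Subgroup.normalizer (M : Set S) := by
      refine (LEBasic.map_conj_mono n Subgroup.le_normalizer).trans ?_
      exact (LEBasic.map_conj_eq_iff_mem_normalizer.2 hn').le
    have h2 : M ≤ Subgroup.normalizer ((M.map (MulAut.conj n).toMonoidHom : Subgroup S) : Set S) := by
      intro m hm
      have hm' : n⁻¹ * m * n ∈ Subgroup.normalizer (M : Set S) :=
        (Subgroup.mem_normalizer_iff''.1 hn' m).1 (Subgroup.le_normalizer hm)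
      rw [← LEBasic.map_conj_eq_iff_mem_normalizer, LEBasic.map_conj_map_conj,
        show m * n = n * (n⁻¹ * m * n) by group, ← LEBasic.map_conj_map_conj M n,
        LEBasic.map_conj_eq_iff_mem_normalizer.2 hm']
    have h3 := hjoin M hM _ (map_mem (MulAut.conj n) hM.1) h2 h1
    exact LEBasic.map_conj_eq_iff_mem_normalizer.1
      (Subgroup.eq_of_le_of_card_ge h3 (by rw [LEBasic.card_map_conj]))
  have hall : ∀ A ∈ Cfsg.dStarFamily S, A ≤ M := by
    intro A hA
    obtain ⟨M', hAM, hM'⟩ := hfin.exists_le_maximal hA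
    exact hAM.trans (hjoin M hM M' hM'.1 (hnormal M' hM' ▸ le_top) (hnormal M hM ▸ le_top))
  have : Cfsg.dStar S = M := le_antisymm (sSup_le hall) (le_sSup hM.1)
  rw [this]; exact hM.1

end Cfsg.Agent.DStar
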