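/-
Replacement for abelian subgroups of largest order; D*(S) lies in each of them.
-/
import Cfsg.Agent.Lib.DStar.Basic
import Cfsg.Agent.Lib.CentrallyLarge.Invariant
import Cfsg.Agent.Lib.PLocal.Replacement

namespace Cfsg.Agent.DStarReplace

open Subgroup
open scoped commutatorElement Pointwise

variable {S : Type*} [Group S]

/-- Replacement: if the abelian normal `V` does not normalise `A`, some other largest abelian subgroup
meets `V` in more, normalises `A`, and lies in every normal subgroup containing `A`. -/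
theorem replace [Finite S] [Group.IsNilpotent S] {V A : Subgroup S} [V.Normal]
    (hV : V ≤ centralizer (V : Set S)) (hA : A ∈ Cfsg.maxAbelianSubgroups S)
    (hnn : ¬ V ≤ normalizer (A : Set S)) :
    ∃ B ∈ Cfsg.maxAbelianSubgroups S, A ⊓ V < B ⊓ V ∧ B ≤ normalizer (A : Set S) ∧
      ∀ N : Subgroup S, N.Normal → A ≤ N → B ≤ N := by
  have hCA := CLarge.centralizer_maxAbelian hA
  have hAC : A ≤ centralizer (A : Set S) := hCA.ge
  have hVc : ∀ v ∈ V, ∀ w ∈ V, v * w = w * v := fun v hv w hw => mem_centralizer_iff.1 (hV hw) v hv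
  have hAV : A ≤ normalizer (V : Set S) := le_normalizer_of_normal
  have hAA : ⁅A, A⁆ = ⊥ := commutator_eq_bot_iff_le_centralizer.2 hAC
  have hbest : ∀ B : Subgroup S, B ≤ A →
      Nat.card B * Nat.card (Replacement.cv V B) ≤ Nat.card A * Nat.card (Replacement.cv V A) := by
    intro B hB
    have hab : B ⊔ Replacement.cv V B ≤ centralizer ((B ⊔ Replacement.cv V B : Subgroup S) : Set S) :=
      CLarge.sup_le_centralizer_sup (hB.trans (hAC.trans (centralizer_le hB)))
        (inf_le_left.trans (hV.trans (centralizer_le inf_le_left)))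
        (le_centralizer_iff.1 inf_le_right)
    have h1 := hA.2 _ (le_centralizer_iff_isMulCommutative.1 hab)
    have h2 : B ⊓ Replacement.cv V B ≤ Replacement.cv V A :=
      fun x hx => ⟨hx.2.1, hAC (hB hx.1)⟩
    exact (Product.card_mul_card_le B _).trans (Nat.mul_le_mul h1 (card_le_of_le h2))
  obtain ⟨u, huV, huW, hu⟩ := CLarge.exists_fixed_mod (S := A) (U := V) (L := V ⊓ normalizer (A : Set S))
    hAV (fun h => hnn (h.trans inf_le_right))
  have hgen : ∀ a ∈ A, ⁅u⁻¹, a⁆ ∈ V ⊓ normalizer (A : Set S) := by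
    intro a ha
    simpa [commutatorElement_def, mul_assoc] using hu a ha
  obtain ⟨h1, h2⟩ := Replacement.replacement hVc hAV (by rw [hAA]; exact bot_le) hbest
    (S := {u⁻¹}) (Set.singleton_subset_iff.2 (inv_mem huV))
  set X := Replacement.commSet A {u⁻¹} with hXdef
  set A0 := A ⊓ centralizer (X : Set S) with hA0
  set C0 := Replacement.cv V A0 with hC0
  have hXW : X ≤ V ⊓ normalizer (A : Set S) := by
    rw [hXdef, Replacement.commSet, closure_le]
    rintro _ ⟨v, rfl, a, ha, rfl⟩
    exact hgen a ha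
  have hBab : A0 ⊔ C0 ≤ centralizer ((A0 ⊔ C0 : Subgroup S) : Set S) :=
    CLarge.sup_le_centralizer_sup (inf_le_left.trans (hAC.trans (centralizer_le inf_le_left)))
      (inf_le_left.trans (hV.trans (centralizer_le inf_le_left)))
      (le_centralizer_iff.1 inf_le_right)
  have hle : Nat.card A ≤ Nat.card (A0 ⊔ C0 : Subgroup S) := by
    have h3 := Product.card_mul_card_le A0 C0
    rw [h2] at h3
    have h4 : Nat.card (A0 ⊓ C0 : Subgroup S) ≤ Nat.card (Replacement.cv V A) :=
      card_le_of_le fun x hx => ⟨hx.2.1, hAC hx.1.1⟩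
    exact Nat.le_of_mul_le_mul_right (h3.trans (Nat.mul_le_mul_left _ h4)) Nat.card_pos
  have hmax : A0 ⊔ C0 ∈ Cfsg.maxAbelianSubgroups S :=
    ⟨le_centralizer_iff_isMulCommutative.1 hBab, fun B hB => (hA.2 B hB).trans hle⟩
  refine ⟨A0 ⊔ C0, hmax, lt_of_le_of_ne ?_ ?_, ?_, ?_⟩
  · refine le_inf ?_ inf_le_right
    rw [h1]
    exact le_sup_of_le_right (le_sup_of_le_right (le_inf inf_le_right (inf_le_left.trans hAC)))
  · intro he
    have hXA : X ≤ A := by
      refine le_trans (le_inf ?_ (hXW.trans inf_le_left)) (he.ge.trans inf_le_left)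
      rw [h1]
      exact le_sup_of_le_right le_sup_left
    refine huW ⟨huV, (inv_mem_iff (H := normalizer (A : Set S))).1 ?_⟩
    refine LEBasic.map_conj_eq_iff_mem_normalizer.1
      (eq_of_le_of_card_ge ?_ (Product.card_map_conj A u⁻¹).ge)
    rintro _ ⟨y, hy, rfl⟩
    have hX1 : ⁅u⁻¹, y⁆ ∈ X := subset_closure ⟨_, rfl, y, hy, rfl⟩
    simpa [commutatorElement_def, mul_assoc] using mul_mem (hXA hX1) hy
  · rw [h1]
    exact sup_le (inf_le_left.trans le_normalizer) (sup_le (hXW.trans inf_le_right)
      (inf_le_right.trans (hCA.le.trans le_normalizer)))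
  · intro N hN hAN
    rw [h1]
    refine sup_le (inf_le_left.trans hAN) (sup_le ?_ (inf_le_right.trans (hCA.le.trans hAN)))
    rw [hXdef, Replacement.commSet, closure_le]
    rintro _ ⟨v, rfl, a, ha, rfl⟩
    rw [SetLike.mem_coe, commutatorElement_def]
    exact mul_mem (hN.conj_mem a (hAN ha) _) (inv_mem (hAN ha))

theorem dStar_normal : (Cfsg.dStar S).Normal := by
  refine ⟨fun d hd g => ?_⟩
  have hle : (Cfsg.dStar S).map (MulAut.conj g).toMonoidHom ≤ Cfsg.dStar S := by
    rw [map_le_iff_le_comap]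
    refine sSup_le fun A hA => ?_
    rw [← map_le_iff_le_comap]
    exact le_sSup (DStar.map_mem (MulAut.conj g) hA)
  exact hle ⟨d, hd, rfl⟩

theorem center_le_dStar : center S ≤ Cfsg.dStar S := by
  refine le_sSup ⟨⟨⟨fun a b => Subtype.ext ((mem_center_iff.1 b.2) a)⟩⟩, fun x _ a ha => ?_⟩
  exact ((mem_center_iff.1 ha) x).symm

variable [Finite S] {p : ℕ} [Fact p.Prime]

theorem dStar_le_maxAbelian (hS : IsPGroup p S) {A : Subgroup S}
    (hA : A ∈ Cfsg.maxAbelianSubgroups S) : Cfsg.dStar S ≤ A := by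
  have hnil : Group.IsNilpotent S := hS.isNilpotent
  set D := Cfsg.dStar S with hD
  have hDm := DStar.dStar_mem hS
  have hDn : D.Normal := dStar_normal
  have hDc : D ≤ centralizer (D : Set S) := le_centralizer_iff_isMulCommutative.2 hDm.1
  induction hk : Nat.card D - Nat.card (A ⊓ D : Subgroup S) using Nat.strong_induction_on
    generalizing A with
  | _ k ih =>
    by_cases hn : D ≤ normalizer (A : Set S)
    · rw [← CLarge.centralizer_maxAbelian hA]
      intro d hd
      refine mem_centralizer_iff.2 fun a ha => ?_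
      refine (DStar.centralizes_of_quadratic hDm (x := a) ?_ (fun c hc => ?_) d hd).symm
      · exact (le_normalizer_of_normal : (⊤ : Subgroup S) ≤ normalizer (D : Set S)) (mem_top a)
      · refine DStar.commute_of_mem hA.1 ha (mul_mem ?_ (inv_mem ha))
        exact (mem_normalizer_iff.1 (hn hc) a).1 ha
    · exfalso
      obtain ⟨B, hB, hlt, hBn, -⟩ := replace hDc hA hn
      refine hn ((ih _ ?_ hB rfl).trans hBn)
      have h1 : Nat.card (A ⊓ D : Subgroup S) < Nat.card (B ⊓ D : Subgroup S) := by
        by_contra hc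
        exact hlt.ne (eq_of_le_of_card_ge hlt.le (not_lt.1 hc))
      have h2 : Nat.card (B ⊓ D : Subgroup S) ≤ Nat.card D := card_le_of_le inf_le_right
      omega

theorem dStar_le_normalAbelian (hS : IsPGroup p S) {A : Subgroup S} [A.Normal]
    (hA : IsMulCommutative A)
    (hmax : ∀ B : Subgroup S, B.Normal → IsMulCommutative B → A ≤ B → B = A) :
    Cfsg.dStar S ≤ A := by
  have hDm := DStar.dStar_mem hS
  have hDn : (Cfsg.dStar S).Normal := dStar_normal
  have hc : A ≤ centralizer (Cfsg.dStar S : Set S) := by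
    intro a ha
    refine mem_centralizer_iff.2 fun d hd => ?_
    refine DStar.centralizes_of_quadratic hDm ?_ (fun c hc => ?_) d hd
    · exact (le_normalizer_of_normal : (⊤ : Subgroup S) ≤ normalizer (Cfsg.dStar S : Set S)) (mem_top a)
    · refine DStar.commute_of_mem hA ha (mul_mem ?_ (inv_mem ha))
      exact Normal.conj_mem inferInstance a ha c
  have h1 := CLarge.sup_le_centralizer_sup (le_centralizer_iff_isMulCommutative.2 hA)
    (le_centralizer_iff_isMulCommutative.2 hDm.1) hc
  have := hmax _ inferInstance (le_centralizer_iff_isMulCommutative.1 h1) le_sup_left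
  exact le_sup_right.trans this.le

end Cfsg.Agent.DStarReplace
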