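/-
Weak replacement in metabelian p-groups.
-/
import Cfsg.Agent.Lib.DStar.Replace

namespace Cfsg.Agent.Metabelian

open Subgroup
open scoped commutatorElement Pointwise

theorem measure_above {G : Type*} [Group G] [Finite G] {T A H : Subgroup G} [T.Normal]
    (hTT : T ≤ centralizer (T : Set G)) (hA : A ∈ Cfsg.maxAbelianSubgroups G) (hAT : A ⊔ T = ⊤)
    (hH : A ≤ H) : Product.measure H ≤ Nat.card A * Nat.card A := by
  have hCA := CLarge.centralizer_maxAbelian hA
  have hprod : ((A ⊔ T : Subgroup G) : Set G) = (A : Set G) * (T : Set G) := mul_normal A T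
  have hsup : A ⊔ (T ⊓ H) = H := by
    refine le_antisymm (sup_le hH inf_le_right) fun x hx => ?_
    obtain ⟨a, ha, t, ht, rfl⟩ := CLarge.mem_mul_of_mem_sup hprod (hAT ▸ mem_top x)
    exact mul_mem (mem_sup_left ha)
      (mem_sup_right ⟨ht, by simpa using mul_mem (inv_mem (hH ha)) hx⟩)
  have e1 : Nat.card H * Nat.card (A ⊓ T : Subgroup G) =
      Nat.card A * Nat.card (T ⊓ H : Subgroup G) := by
    have hset : ((A ⊔ (T ⊓ H) : Subgroup G) : Set G) =
        (A : Set G) * ((T ⊓ H : Subgroup G) : Set G) := by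
      rw [hsup]
      refine Set.Subset.antisymm ?_ ?_
      · intro x hx
        obtain ⟨a, ha, t, ht, rfl⟩ := CLarge.mem_mul_of_mem_sup hprod (hAT ▸ mem_top x)
        exact Set.mul_mem_mul ha ⟨ht, by simpa using mul_mem (inv_mem (hH ha)) hx⟩
      · rintro _ ⟨a, ha, t, ht, rfl⟩
        exact mul_mem (hH ha) ht.2
    have := CLarge.card_of_coe_sup_eq hset
    rwa [hsup, show A ⊓ (T ⊓ H) = A ⊓ T by rw [inf_comm T, ← inf_assoc, inf_of_le_left hH]] at this
  have hCH : centralizer (H : Set G) ≤ A := (centralizer_le hH).trans hCA.le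
  have hab := CLarge.sup_le_centralizer_sup (H := T ⊓ H) (K := centralizer (H : Set G))
    (inf_le_left.trans (hTT.trans (centralizer_le inf_le_left)))
    (hCH.trans (hCA.ge.trans (centralizer_le hCH)))
    (inf_le_right.trans (le_centralizer_iff.1 le_rfl))
  have h1 := hA.2 _ (le_centralizer_iff_isMulCommutative.1 hab)
  have h2 := Product.card_mul_card_le (T ⊓ H) (centralizer (H : Set G))
  have h3 : Nat.card (T ⊓ H ⊓ centralizer (H : Set G) : Subgroup G) ≤
      Nat.card (A ⊓ T : Subgroup G) := card_le_of_le fun x hx => ⟨hCH hx.2, hx.1.1⟩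
  refine Nat.le_of_mul_le_mul_right ?_ (Nat.card_pos (α := (A ⊓ T : Subgroup G)))
  unfold Product.measure
  calc Nat.card H * Nat.card (centralizer (H : Set G)) * Nat.card (A ⊓ T : Subgroup G)
      = Nat.card H * Nat.card (A ⊓ T : Subgroup G) * Nat.card (centralizer (H : Set G)) := by ring
    _ = Nat.card A * (Nat.card (T ⊓ H : Subgroup G) * Nat.card (centralizer (H : Set G))) := by
        rw [e1]; ring
    _ ≤ Nat.card A * (Nat.card A * Nat.card (A ⊓ T : Subgroup G)) :=
        Nat.mul_le_mul_left _ (h2.trans (Nat.mul_le_mul h1 h3))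
    _ = _ := by ring

theorem measure_below {G : Type*} [Group G] [Finite G] {T A H : Subgroup G} [T.Normal]
    (hTT : T ≤ centralizer (T : Set G)) (hA : A ∈ Cfsg.maxAbelianSubgroups G) (hAT : A ⊔ T = ⊤)
    (hH : H ≤ A) : Product.measure H ≤ Nat.card A * Nat.card A := by
  have hCA := CLarge.centralizer_maxAbelian hA
  set C := centralizer (H : Set G) with hC
  have hAC : A ≤ C := hCA.ge.trans (centralizer_le hH)
  have hprod : ((A ⊔ T : Subgroup G) : Set G) = (A : Set G) * (T : Set G) := mul_normal A T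
  have hset : ((A ⊔ (T ⊓ C) : Subgroup G) : Set G) = (A : Set G) * ((T ⊓ C : Subgroup G) : Set G) := by
    refine Set.Subset.antisymm ?_ ?_
    · intro x hx
      have hxC : x ∈ C := sup_le hAC inf_le_right hx
      obtain ⟨a, ha, t, ht, rfl⟩ := CLarge.mem_mul_of_mem_sup hprod (hAT ▸ mem_top x)
      exact Set.mul_mem_mul ha ⟨ht, by simpa using mul_mem (inv_mem (hAC ha)) hxC⟩
    · rintro _ ⟨a, ha, t, ht, rfl⟩
      exact mul_mem (mem_sup_left ha) (mem_sup_right ht)
  have hsup : A ⊔ (T ⊓ C) = C := by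
    refine le_antisymm (sup_le hAC inf_le_right) fun x hx => ?_
    obtain ⟨a, ha, t, ht, rfl⟩ := CLarge.mem_mul_of_mem_sup hprod (hAT ▸ mem_top x)
    exact mul_mem (mem_sup_left ha)
      (mem_sup_right ⟨ht, by simpa using mul_mem (inv_mem (hAC ha)) hx⟩)
  have e1 := CLarge.card_of_coe_sup_eq hset
  rw [hsup, show A ⊓ (T ⊓ C) = A ⊓ T by
    rw [inf_comm T, ← inf_assoc, inf_of_le_left hAC]] at e1
  have hab := CLarge.sup_le_centralizer_sup (H := H) (K := T ⊓ C)
    (hH.trans (hCA.ge.trans (centralizer_le hH)))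
    (inf_le_left.trans (hTT.trans (centralizer_le inf_le_left)))
    (le_centralizer_iff.1 inf_le_right)
  have h1 := hA.2 _ (le_centralizer_iff_isMulCommutative.1 hab)
  have h2 := Product.card_mul_card_le H (T ⊓ C)
  have h3 : Nat.card (H ⊓ (T ⊓ C) : Subgroup G) ≤ Nat.card (A ⊓ T : Subgroup G) :=
    card_le_of_le fun x hx => ⟨hH hx.1, hx.2.1⟩
  refine Nat.le_of_mul_le_mul_right ?_ (Nat.card_pos (α := (A ⊓ T : Subgroup G)))
  unfold Product.measure
  calc Nat.card H * Nat.card C * Nat.card (A ⊓ T : Subgroup G)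
      = Nat.card H * (Nat.card C * Nat.card (A ⊓ T : Subgroup G)) := by ring
    _ = Nat.card A * (Nat.card H * Nat.card (T ⊓ C : Subgroup G)) := by rw [e1]; ring
    _ ≤ Nat.card A * (Nat.card A * Nat.card (A ⊓ T : Subgroup G)) :=
        Nat.mul_le_mul_left _ (h2.trans (Nat.mul_le_mul h1 h3))
    _ = _ := by ring

/-- If `G = A T` for a family of largest abelian subgroups generating `G`, then `|T Z(G)| ≥ |A|`. -/
theorem card_le_center_sup {G : Type*} [Group G] [Finite G] {T A : Subgroup G} [T.Normal]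
    (hTT : T ≤ centralizer (T : Set G)) (hA : A ∈ Cfsg.maxAbelianSubgroups G) (hAT : A ⊔ T = ⊤)
    (hgen : sSup {B : Subgroup G | B ∈ Cfsg.maxAbelianSubgroups G ∧ B ⊔ T = ⊤} = ⊤) :
    Nat.card A ≤ Nat.card (T ⊔ center G : Subgroup G) := by
  set m := Nat.card A * Nat.card A with hm
  have hmA : ∀ B : Subgroup G, B ∈ Cfsg.maxAbelianSubgroups G → Product.measure B = m := by
    intro B hB
    have e : Nat.card B = Nat.card A := le_antisymm (hA.2 B hB.1) (hB.2 A hA.1)
    unfold Product.measure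
    rw [CLarge.centralizer_maxAbelian hB, e]
  obtain ⟨M, hAM, hM⟩ := Finite.exists_le_maximal
    (p := fun H : Subgroup G => A ≤ H ∧ Product.measure H = m) ⟨le_rfl, hmA A hA⟩
  have hMtop : M = ⊤ := by
    rw [eq_top_iff, ← hgen]
    refine sSup_le fun B ⟨hB, hBT⟩ => ?_
    have h0 := Product.measure_mul_le M B
    rw [hM.1.2, hmA B hB] at h0
    have h1 : Product.measure (M ⊔ B) ≤ m := measure_above hTT hA hAT (hAM.trans le_sup_left)
    have h2 : Product.measure (M ⊓ B) ≤ m := by
      refine (measure_below hTT hB hBT inf_le_right).trans ?_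
      rw [hm, le_antisymm (hA.2 B hB.1) (hB.2 A hA.1)]
    have h3 : Product.measure (M ⊔ B) = m := le_antisymm h1 (Nat.le_of_mul_le_mul_right
      (h0.trans (Nat.mul_le_mul_left _ h2)) (Nat.mul_pos Nat.card_pos Nat.card_pos))
    exact le_sup_right.trans (hM.2 ⟨hAM.trans le_sup_left, h3⟩ le_sup_left)
  have h4 := hM.1.2
  rw [hMtop, hm, Product.measure, coe_top, centralizer_univ, card_top] at h4
  have hprod : ((A ⊔ T : Subgroup G) : Set G) = (A : Set G) * (T : Set G) := mul_normal A T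
  have e1 := CLarge.card_of_coe_sup_eq hprod
  rw [hAT, card_top] at e1
  have hi : A ⊓ T ≤ T ⊓ center G := by
    refine fun x hx => ⟨hx.2, ?_⟩
    rw [← centralizer_univ, ← coe_top, ← hAT, Product.centralizer_sup]
    exact ⟨(CLarge.centralizer_maxAbelian hA).ge hx.1, hTT hx.2⟩
  have h5 := Product.card_mul_card_le T (center G)
  refine Nat.le_of_mul_le_mul_right ?_ (Nat.card_pos (α := (T ⊓ center G : Subgroup G)))
  refine le_trans ?_ h5
  refine Nat.le_of_mul_le_mul_left ?_ (Nat.card_pos (α := G))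
  calc Nat.card G * (Nat.card A * Nat.card (T ⊓ center G : Subgroup G))
      = Nat.card A * (Nat.card G * Nat.card (T ⊓ center G : Subgroup G)) := by ring
    _ ≤ _ := ?_
  have h6 : Nat.card (T ⊓ center G : Subgroup G) ≤ Nat.card (A ⊓ T : Subgroup G) := by
    refine card_le_of_le fun x hx => ⟨?_, hx.1⟩
    rw [← CLarge.centralizer_maxAbelian hA]
    exact center_le_centralizer _ hx.2
  calc Nat.card A * (Nat.card G * Nat.card (T ⊓ center G : Subgroup G))
      ≤ Nat.card A * (Nat.card G * Nat.card (A ⊓ T : Subgroup G)) :=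
        Nat.mul_le_mul_left _ (Nat.mul_le_mul_left _ h6)
    _ = Nat.card A * Nat.card A * Nat.card T := by rw [e1]; ring
    _ = Nat.card G * (Nat.card T * Nat.card (center G)) := by rw [← h4]; ring

/-- A normal subgroup carries the largest abelian subgroups it contains. -/
theorem subgroupOf_maxAbelian {S : Type*} [Group S] {K B : Subgroup S}
    (hB : B ∈ Cfsg.maxAbelianSubgroups S) (hBK : B ≤ K) :
    B.subgroupOf K ∈ Cfsg.maxAbelianSubgroups K := by
  refine ⟨⟨⟨fun a b => ?_⟩⟩, fun C hC => ?_⟩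
  · have := DStar.commute_of_mem hB.1 a.2 b.2
    exact Subtype.ext (Subtype.ext this)
  · rw [Nat.card_congr (subgroupOfEquivOfLe hBK).toEquiv,
      ← card_map_of_injective (K := C) (f := K.subtype) K.subtype_injective]
    refine hB.2 _ ⟨⟨?_⟩⟩
    rintro ⟨_, a, ha, rfl⟩ ⟨_, b, hb, rfl⟩
    exact Subtype.ext (congrArg Subtype.val (DStar.commute_of_mem hC ha hb) :)

theorem exists_normal {S : Type*} [Group S] [Finite S] [Group.IsNilpotent S]
    (hmeta : IsMulCommutative (commutator S)) {A : Subgroup S}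
    (hA : A ∈ Cfsg.maxAbelianSubgroups S) :
    ∃ B ∈ Cfsg.maxAbelianSubgroups S, B.Normal ∧ B ≤ normalClosure (A : Set S) := by
  set K0 := normalClosure (A : Set S)
  set T0 := commutator S ⊓ K0 with hT0
  have hT0c : T0 ≤ centralizer (T0 : Set S) :=
    inf_le_left.trans ((le_centralizer_iff_isMulCommutative.2 hmeta).trans (centralizer_le inf_le_left))
  obtain ⟨A', ⟨hA', hA'K⟩, hbest⟩ := Set.exists_max_image
    {B : Subgroup S | B ∈ Cfsg.maxAbelianSubgroups S ∧ B ≤ K0}
    (fun B => Nat.card (B ⊓ T0 : Subgroup S)) (Set.toFinite _) ⟨A, hA, le_normalClosure⟩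
  have hTn : T0 ≤ normalizer (A' : Set S) := by
    by_contra hn
    obtain ⟨B, hB, hlt, -, hN⟩ := DStarReplace.replace hT0c hA' hn
    have h1 := hbest B ⟨hB, hN K0 inferInstance hA'K⟩
    exact hlt.ne (eq_of_le_of_card_ge hlt.le h1)
  set K := normalClosure (A' : Set S) with hKdef
  have hKK : K ≤ K0 := normalClosure_le_normal hA'K
  have hA'le : A' ≤ K := le_normalClosure
  set T := commutator S ⊓ K with hTdef
  have hTT0 : T ≤ T0 := inf_le_inf_left _ hKK
  have hTc : T ≤ centralizer (T : Set S) := hTT0.trans (hT0c.trans (centralizer_le hTT0))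
  have hconj : ∀ g : S, A'.map (MulAut.conj g).toMonoidHom ≤ A' ⊔ T := by
    rintro g _ ⟨a, ha, rfl⟩
    have h1 : ⁅g, a⁆ ∈ T := by
      refine ⟨commutator_mem_commutator (mem_top g) (mem_top a), ?_⟩
      rw [commutatorElement_def]
      exact K.mul_mem (Normal.conj_mem inferInstance a (hA'le ha) g) (K.inv_mem (hA'le ha))
    have h2 : (MulAut.conj g).toMonoidHom a = ⁅g, a⁆ * a := by simp [commutatorElement_def]
    rw [h2]
    exact mul_mem (mem_sup_right h1) (mem_sup_left ha)
  have hKeq : A' ⊔ T = K := by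
    refine le_antisymm (sup_le hA'le inf_le_right) ?_
    rw [hKdef]
    refine (closure_le _).2 fun x hx => ?_
    obtain ⟨a, ha, hc⟩ := Group.mem_conjugatesOfSet_iff.1 hx
    obtain ⟨g, rfl⟩ := isConj_iff.1 hc
    exact hconj g ⟨a, ha, rfl⟩
  have hTnorm : T.Normal := inferInstance
  have hTK : (T.subgroupOf K).Normal := Normal.subgroupOf hTnorm K
  have hmaxconj : ∀ g : S, A'.map (MulAut.conj g).toMonoidHom ∈ Cfsg.maxAbelianSubgroups S := by
    intro g
    refine ⟨⟨⟨?_⟩⟩, fun C hC => (hA'.2 C hC).trans_eq (Product.card_map_conj A' g).symm⟩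
    rintro ⟨_, a, ha, rfl⟩ ⟨_, b, hb, rfl⟩
    exact Subtype.ext (by
      show (MulAut.conj g) a * (MulAut.conj g) b = (MulAut.conj g) b * (MulAut.conj g) a
      rw [← map_mul, ← map_mul, DStar.commute_of_mem hA'.1 ha hb])
  have hconjK : ∀ g : S, A'.map (MulAut.conj g).toMonoidHom ≤ K := fun g => (hconj g).trans hKeq.le
  have htop : ∀ g : S,
      (A'.map (MulAut.conj g).toMonoidHom).subgroupOf K ⊔ T.subgroupOf K = ⊤ := by
    intro g
    rw [← subgroupOf_sup (hconjK g) inf_le_right, subgroupOf_eq_top]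
    have hx : K ≤ A'.map (MulAut.conj g).toMonoidHom ⊔ T.map (MulAut.conj g).toMonoidHom := by
      rw [← Subgroup.map_sup, hKeq]
      intro x hx
      exact ⟨g⁻¹ * x * g, by simpa using Normal.conj_mem inferInstance x hx g⁻¹, by simp [mul_assoc]⟩
    refine hx.trans (sup_le_sup_left ?_ _)
    rintro _ ⟨t, ht, rfl⟩
    exact hTnorm.conj_mem t ht g
  have hA1 := htop 1
  rw [show A'.map (MulAut.conj (1 : S)).toMonoidHom = A' by ext; simp] at hA1
  have key := card_le_center_sup (G := K) (T := T.subgroupOf K) (A := A'.subgroupOf K) ?_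
    (subgroupOf_maxAbelian hA' hA'le) hA1 ?_
  · rw [Nat.card_congr (subgroupOfEquivOfLe hA'le).toEquiv,
      ← card_map_of_injective (K := T.subgroupOf K ⊔ center K) (f := K.subtype) K.subtype_injective,
      Subgroup.map_sup, subgroupOf_map_subtype, inf_of_le_left (inf_le_right : T ≤ K)] at key
    set Z := K ⊓ centralizer (K : Set S) with hZ
    have hZeq : (center K).map K.subtype = Z := by
      ext x
      constructor
      · rintro ⟨⟨y, hy⟩, hc, rfl⟩
        exact ⟨hy, mem_centralizer_iff.2 fun z hz => congrArg Subtype.val (mem_center_iff.1 hc ⟨z, hz⟩)⟩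
      · rintro ⟨hx, hc⟩
        exact ⟨⟨x, hx⟩, mem_center_iff.2 fun z => Subtype.ext (mem_centralizer_iff.1 hc z z.2), rfl⟩
    rw [hZeq] at key
    have hab : T ⊔ Z ≤ centralizer ((T ⊔ Z : Subgroup S) : Set S) :=
      CLarge.sup_le_centralizer_sup hTc (inf_le_right.trans (centralizer_le inf_le_left))
        (le_centralizer_iff.1 (inf_le_right.trans (centralizer_le inf_le_right)))
    refine ⟨T ⊔ Z, ⟨le_centralizer_iff_isMulCommutative.1 hab, fun C hC => (hA'.2 C hC).trans key⟩,
      inferInstance, sup_le (inf_le_right.trans hKK) (inf_le_left.trans hKK)⟩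
  · intro x hx
    exact mem_centralizer_iff.2 fun y hy => Subtype.ext (mem_centralizer_iff.1 (hTc hx) y hy)
  · rw [eq_top_iff]
    have hle : K ≤ (sSup {B : Subgroup K | B ∈ Cfsg.maxAbelianSubgroups K ∧
        B ⊔ T.subgroupOf K = ⊤}).map K.subtype := by
      refine (closure_le _).2 fun x hx => ?_
      obtain ⟨a, ha, hc⟩ := Group.mem_conjugatesOfSet_iff.1 hx
      obtain ⟨g, rfl⟩ := isConj_iff.1 hc
      have hmem : g * a * g⁻¹ ∈ A'.map (MulAut.conj g).toMonoidHom := ⟨a, ha, rfl⟩
      refine ⟨(⟨g * a * g⁻¹, hconjK g hmem⟩ : K), ?_, rfl⟩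
      refine (le_sSup ?_ : (A'.map (MulAut.conj g).toMonoidHom).subgroupOf K ≤ _) (mem_subgroupOf.2 hmem)
      exact ⟨subgroupOf_maxAbelian (hmaxconj g) (hconjK g), htop g⟩
    rintro ⟨x, hx⟩ -
    obtain ⟨y, hy, e⟩ := hle hx
    have e' : y = ⟨x, hx⟩ := Subtype.ext e
    exact e' ▸ hy

end Cfsg.Agent.Metabelian
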