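/-
The D*-theorem: in a p-stable group D*(S) is normal.
-/
import Cfsg.Agent.Lib.DStar.Replace
import Cfsg.Agent.Lib.Transfer.Basic
import Cfsg.Agent.Lib.FGBasics.Sylow
import Cfsg.Prelude.Def_PLocal

namespace Cfsg.Agent.DStarThm

open Subgroup
open scoped commutatorElement Pointwise

variable {G : Type*} [Group G]

theorem normal_pCore (p : ℕ) (H : Type*) [Group H] : (Cfsg.pCore p H).Normal :=
  have := PBasic.pCore_characteristic p H
  inferInstance

theorem dStarOf_conj_mem {S : Subgroup G} {d s : G} (hs : s ∈ S) (hd : d ∈ Cfsg.dStarOf S) :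
    s * d * s⁻¹ ∈ Cfsg.dStarOf S := by
  obtain ⟨d', hd', rfl⟩ := hd
  have := (DStarReplace.dStar_normal (S := S)).conj_mem d' hd' ⟨s, hs⟩
  exact ⟨_, this, rfl⟩

theorem dStarOf_abelian [Finite G] {p : ℕ} [Fact p.Prime] {S : Subgroup G} (hS : IsPGroup p S)
    {a b : G} (ha : a ∈ Cfsg.dStarOf S) (hb : b ∈ Cfsg.dStarOf S) : a * b = b * a := by
  obtain ⟨a, ha, rfl⟩ := ha
  obtain ⟨b, hb, rfl⟩ := hb
  exact congrArg S.subtype (DStar.commute_of_mem (DStar.dStar_mem hS).1 ha hb)

theorem dStarOf_centralized [Finite G] {p : ℕ} [Fact p.Prime] {S : Subgroup G} (hS : IsPGroup p S)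
    {x : G} (hx : x ∈ S)
    (h : ⁅⁅Cfsg.dStarOf S ⊔ zpowers x, Cfsg.dStarOf S ⊔ zpowers x⁆,
      Cfsg.dStarOf S ⊔ zpowers x⁆ = ⊥) :
    ∀ a ∈ Cfsg.dStarOf S, a * x = x * a := by
  rintro _ ⟨a, ha, rfl⟩
  have e : zpowers x = (zpowers (⟨x, hx⟩ : S)).map S.subtype :=
    (MonoidHom.map_zpowers S.subtype ⟨x, hx⟩).symm
  rw [e, Cfsg.dStarOf, ← Subgroup.map_sup, ← map_commutator, ← map_commutator,
    map_eq_bot_iff_of_injective _ S.subtype_injective] at h
  exact congrArg S.subtype ((DStar.dStar_mem hS).2 ⟨x, hx⟩ h a ha)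

theorem dStar_theorem [Finite G] {p : ℕ} [Fact p.Prime]
    (hc : centralizer (Cfsg.pCore p G : Set G) ≤ Cfsg.pCore p G)
    (hst : ∀ (P : Subgroup G) [P.Normal], IsPGroup p P → Cfsg.IsPStableOn p P) (S : Sylow p G) :
    (Cfsg.dStarOf (S : Subgroup G)).Normal := by
  set Q := Cfsg.pCore p G with hQdef
  set D := Cfsg.dStarOf (S : Subgroup G) with hDdef
  have hQn : Q.Normal := (have := PBasic.pCore_characteristic p G; inferInstance)
  have hQp : IsPGroup p Q := PBasic.pCore_isPGroup p G
  have hQS : Q ≤ (S : Subgroup G) := PBasic.pCore_le_sylow S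
  have hSp : IsPGroup p (S : Subgroup G) := S.isPGroup'
  have hDS : D ≤ (S : Subgroup G) := map_subtype_le _
  have hDQ : D ≤ Q := by
    intro a ha
    have h1 : ⁅Q, zpowers a⁆ ≤ D := by
      rw [commutator_le]
      intro q hq b hb
      have hb' : b ∈ D := zpowers_le.2 ha hb
      rw [commutatorElement_def]
      exact mul_mem (dStarOf_conj_mem (hQS hq) hb') (inv_mem hb')
    have h2 : ⁅⁅Q, zpowers a⁆, zpowers a⁆ = ⊥ := by
      rw [eq_bot_iff]
      refine (commutator_mono h1 (zpowers_le.2 ha)).trans ?_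
      rw [le_bot_iff, commutator_eq_bot_iff_le_centralizer]
      exact fun u hu => mem_centralizer_iff.2 fun v hv => dStarOf_abelian hSp hv hu
    have h3 := hst Q hQp a h2
    have hk : IsPGroup p (QuotientGroup.mk' (centralizer (Q : Set G))).ker := by
      rw [QuotientGroup.ker_mk']; exact hQp.to_le hc
    exact PBasic.le_pCore ((normal_pCore p _).comap _)
      ((PBasic.pCore_isPGroup p (G ⧸ centralizer (Q : Set G))).comap_of_ker_isPGroup _ hk) h3
  -- conjugates of `D` give members of the family of `Q`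
  have hmem : ∀ h : G, (D.map (MulAut.conj h).toMonoidHom).subgroupOf Q ∈ Cfsg.dStarFamily Q := by
    intro h
    constructor
    · refine ⟨⟨fun u v => ?_⟩⟩
      obtain ⟨a, ha, hea⟩ := u.2
      obtain ⟨b, hb, heb⟩ := v.2
      refine Subtype.ext (Subtype.ext ?_)
      show Q.subtype u.1 * Q.subtype v.1 = Q.subtype v.1 * Q.subtype u.1
      rw [← hea, ← heb, ← map_mul, ← map_mul, dStarOf_abelian hSp ha hb]
    · intro x hx
      rintro ⟨u, hu⟩ hu'
      obtain ⟨a, ha, rfl⟩ := hu'
      have hx' : h⁻¹ * (x : G) * h ∈ (S : Subgroup G) :=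
        hQS (by simpa using hQn.conj_mem _ x.2 h⁻¹)
      have key : ⁅⁅D ⊔ zpowers (h⁻¹ * (x : G) * h), D ⊔ zpowers (h⁻¹ * (x : G) * h)⁆,
          D ⊔ zpowers (h⁻¹ * (x : G) * h)⁆ = ⊥ := by
        rw [← map_eq_bot_iff_of_injective _ (MulAut.conj h).injective (f := (MulAut.conj h).toMonoidHom),
          map_commutator, map_commutator, Subgroup.map_sup, MonoidHom.map_zpowers]
        have hle : D.map (MulAut.conj h).toMonoidHom ≤ Q := by
          rintro _ ⟨b, hb, rfl⟩
          exact hQn.conj_mem b (hDQ hb) h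
        have e : (MulAut.conj h).toMonoidHom (h⁻¹ * (x : G) * h) = Q.subtype x := by
          simp [mul_assoc]
        rw [e, ← MonoidHom.map_zpowers, ← inf_of_le_left hle, ← subgroupOf_map_subtype,
          ← Subgroup.map_sup, ← map_commutator, ← map_commutator, hx, Subgroup.map_bot]
      have := dStarOf_centralized hSp hx' key a ha
      refine Subtype.ext ?_
      show h * a * h⁻¹ * (x : G) = (x : G) * (h * a * h⁻¹)
      calc h * a * h⁻¹ * (x : G) = h * (a * (h⁻¹ * (x : G) * h)) * h⁻¹ := by group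
        _ = h * ((h⁻¹ * (x : G) * h) * a) * h⁻¹ := by rw [this]
        _ = (x : G) * (h * a * h⁻¹) := by group
  have hnormQ : ∀ h : G, ⊤ ≤ normalizer ((D.map (MulAut.conj h).toMonoidHom).subgroupOf Q : Set Q) := by
    intro h
    refine CLarge.le_normalizer_of_forall fun g _ u hu => ?_
    obtain ⟨a, ha, e⟩ := hu
    refine ⟨(h⁻¹ * (g : G) * h) * a * (h⁻¹ * (g : G) * h)⁻¹,
      dStarOf_conj_mem (hQS (by simpa using hQn.conj_mem _ g.2 h⁻¹)) ha, ?_⟩
    have e' : h * a * h⁻¹ = (u : G) := e
    show h * _ * h⁻¹ = (g : G) * (u : G) * (g : G)⁻¹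
    rw [← e']; group
  set W := normalClosure (D : Set G) with hWdef
  have hWQ : W ≤ Q := normalClosure_le_normal hDQ
  have hWab : W ≤ centralizer (W : Set G) := by
    have hcomm : ∀ u ∈ Group.conjugatesOfSet (D : Set G), ∀ v ∈ Group.conjugatesOfSet (D : Set G),
        u * v = v * u := by
      intro u hu v hv
      obtain ⟨a, ha, hca⟩ := Group.mem_conjugatesOfSet_iff.1 hu
      obtain ⟨g, rfl⟩ := isConj_iff.1 hca
      obtain ⟨b, hb, hcb⟩ := Group.mem_conjugatesOfSet_iff.1 hv
      obtain ⟨k, rfl⟩ := isConj_iff.1 hcb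
      have := DStar.commute_of_normalize (hmem g) (hmem k) (le_top.trans (hnormQ k))
        (le_top.trans (hnormQ g)) (⟨g * a * g⁻¹, hQn.conj_mem a (hDQ ha) g⟩ : Q) ⟨a, ha, rfl⟩
        (⟨k * b * k⁻¹, hQn.conj_mem b (hDQ hb) k⟩ : Q) ⟨b, hb, rfl⟩
      exact congrArg Subtype.val this
    exact le_centralizer_iff_isMulCommutative.2 (Subgroup.isMulCommutative_closure hcomm)
  have hWS : W ≤ (S : Subgroup G) := hWQ.trans hQS
  have hfam : W.subgroupOf (S : Subgroup G) ∈ Cfsg.dStarFamily (S : Subgroup G) := by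
    constructor
    · exact ⟨⟨fun a b => Subtype.ext (Subtype.ext (mem_centralizer_iff.1 (hWab b.2) _ a.2))⟩⟩
    · rintro ⟨x, hxS⟩ hx ⟨w, hwS⟩ hw
      refine Subtype.ext ?_
      show w * x = x * w
      have hU : ⁅⁅W ⊔ zpowers x, W ⊔ zpowers x⁆, W ⊔ zpowers x⁆ = ⊥ := by
        have h := congrArg (Subgroup.map (S : Subgroup G).subtype) hx
        rw [map_commutator, map_commutator, Subgroup.map_sup, subgroupOf_map_subtype,
          inf_of_le_left hWS, MonoidHom.map_zpowers, Subgroup.map_bot] at h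
        exact h
      have hquad : ⁅⁅W, zpowers x⁆, zpowers x⁆ = ⊥ := by
        rw [eq_bot_iff, ← hU]
        exact commutator_mono (commutator_mono le_sup_left le_sup_right) le_sup_right
      set f := QuotientGroup.mk' (centralizer (W : Set G))
      have hfsurj : Function.Surjective f := QuotientGroup.mk'_surjective _
      set L := (Cfsg.pCore p (G ⧸ centralizer (W : Set G))).comap f with hLdef
      have hLn : L.Normal := (normal_pCore p _).comap _
      have hxL : x ∈ L := hst W (hQp.to_le hWQ) x hquad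
      have hLdec : L ≤ ((S : Subgroup G) ⊓ L) ⊔ centralizer (W : Set G) := by
        intro y hy
        have hy2 : f y ∈ Cfsg.pCore p (G ⧸ centralizer (W : Set G)) := hy
        obtain ⟨s, hs, es⟩ := PBasic.pCore_le_sylow (S.mapSurjective hfsurj) hy2
        have hc' : s⁻¹ * y ∈ centralizer (W : Set G) := (QuotientGroup.eq).1 es
        have hsL : s ∈ L := show f s ∈ Cfsg.pCore p (G ⧸ centralizer (W : Set G)) by rw [es]; exact hy2
        simpa using mul_mem (mem_sup_left (T := centralizer (W : Set G)) (mem_inf.2 ⟨hs, hsL⟩))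
          (mem_sup_right (S := (S : Subgroup G) ⊓ L) hc')
      have htop : normalizer (((S : Subgroup G) ⊓ L : Subgroup G) : Set G) ⊔
          centralizer (W : Set G) = ⊤ := by
        rw [eq_top_iff, ← FGBasics.normalizer_inf_sup_eq_top S L]
        exact sup_le le_sup_left (hLdec.trans (sup_le (le_normalizer.trans le_sup_left) le_sup_right))
      have hWle : W ≤ centralizer ({x} : Set G) := by
        refine (closure_le _).2 fun u hu => ?_
        obtain ⟨a, ha, hca⟩ := Group.mem_conjugatesOfSet_iff.1 hu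
        obtain ⟨g, rfl⟩ := isConj_iff.1 hca
        have hg : g ∈ (normalizer (((S : Subgroup G) ⊓ L : Subgroup G) : Set G) : Set G) *
            (centralizer (W : Set G) : Set G) := by
          rw [← mul_normal, htop]; trivial
        obtain ⟨n, hn, c, hc', rfl⟩ := hg
        have haW : a ∈ W := le_normalClosure ha
        have h1 : c * a * c⁻¹ = a := by
          rw [← mem_centralizer_iff.1 hc' a haW]; group
        have h2 : n⁻¹ * x * n ∈ (S : Subgroup G) :=
          (by simpa using CLarge.conj_mem (inv_mem hn) (mem_inf.2 ⟨hxS, hxL⟩) :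
            n⁻¹ * x * n ∈ (S : Subgroup G) ⊓ L).1
        have key : ⁅⁅D ⊔ zpowers (n⁻¹ * x * n), D ⊔ zpowers (n⁻¹ * x * n)⁆,
            D ⊔ zpowers (n⁻¹ * x * n)⁆ = ⊥ := by
          have hle : D ⊔ zpowers (n⁻¹ * x * n) ≤
              (W ⊔ zpowers x).map (MulAut.conj n⁻¹).toMonoidHom := by
            refine sup_le (fun d hd => ⟨n * d * n⁻¹, mem_sup_left ?_, by simp [mul_assoc]⟩)
              (zpowers_le.2 ⟨x, mem_sup_right (mem_zpowers x), by simp [mul_assoc]⟩)
            exact Normal.conj_mem inferInstance d (le_normalClosure hd) n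
          rw [eq_bot_iff]
          refine (commutator_mono (commutator_mono hle hle) hle).trans ?_
          rw [← map_commutator, ← map_commutator, hU, Subgroup.map_bot]
        have h3 := dStarOf_centralized hSp h2 key a ha
        rw [SetLike.mem_coe, mem_centralizer_singleton_iff]
        rw [show n * c * a * (n * c)⁻¹ = n * (c * a * c⁻¹) * n⁻¹ by group, h1]
        calc n * a * n⁻¹ * x = n * (a * (n⁻¹ * x * n)) * n⁻¹ := by group
          _ = n * ((n⁻¹ * x * n) * a) * n⁻¹ := by rw [h3]
          _ = x * (n * a * n⁻¹) := by group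
      exact mem_centralizer_singleton_iff.1 (hWle hw)
  have hWD : W ≤ D := by
    rw [← inf_of_le_left hWS, ← subgroupOf_map_subtype]
    exact map_mono (le_sSup hfam)
  rw [← le_antisymm hWD le_normalClosure]
  infer_instance

end Cfsg.Agent.DStarThm
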